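import Cfsg.Agent.Lib.JordanField.Main
import Cfsg.Agent.Lib.PSL2.Basic

/-!
# Two abelian groups of shears whose axes form a spread generate `SL₂(F)` on its natural module

`P` acts faithfully on `W = X ⊕ X'`, generated by `A` (fixing `X`, shifting into `X`) and `B` (the same for `X'`),
each acting regularly, and the images of `X` are `X` and the `a X'`.
-/

set_option autoImplicit false

open Matrix
open scoped MatrixGroups

namespace Cfsg.Agent.SpreadPair

variable {W : Type*} [AddCommGroup W] {P : Type*} [Group P] (r : P →* AddMonoid.End W)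

theorem r_mul (g h : P) (w : W) : r (g * h) w = r g (r h w) := by
  rw [map_mul]; rfl

theorem r_one (w : W) : r 1 w = w := by
  rw [map_one]; rfl

theorem r_injective (g : P) : Function.Injective (r g) :=
  Function.LeftInverse.injective (g := r g⁻¹) fun w => by rw [← r_mul, inv_mul_cancel, r_one]

/-- A group of shears with axis `X`, regular off the axis on `X'`. -/
structure Shears (A : Subgroup P) (X X' : AddSubgroup W) : Prop where
  fix : ∀ a ∈ A, ∀ x ∈ X, r a x = x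
  mov : ∀ a ∈ A, ∀ w, r a w - w ∈ X
  reg : ∀ a ∈ A, a ≠ 1 → ∀ x ∈ X', r a x = x → x = 0

variable {r} {A B : Subgroup P} {X X' : AddSubgroup W}

/-- The displacement of a shear on `X'`. -/
def shift (h : Shears r A X X') {a : P} (ha : a ∈ A) : ↥X' →+ ↥X :=
  AddMonoidHom.mk' (fun x => ⟨r a x - x, h.mov a ha x⟩) fun x y => Subtype.ext (by
    simp only [AddSubgroup.coe_add, map_add]; abel)

theorem coe_shift (h : Shears r A X X') {a : P} (ha : a ∈ A) (x : ↥X') :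
    (shift h ha x : W) = r a x - x := rfl

theorem shift_injective (h : Shears r A X X') {a : P} (ha : a ∈ A) (h1 : a ≠ 1) :
    Function.Injective (shift h ha) :=
  (injective_iff_map_eq_zero _).mpr fun x hx => Subtype.ext
    (h.reg a ha h1 x x.2 (sub_eq_zero.mp (congrArg Subtype.val hx)))

theorem shear_mul (h : Shears r A X X') {a a' : P} (ha : a ∈ A) (ha' : a' ∈ A) (w : W) :
    r (a * a') w - w = (r a w - w) + (r a' w - w) := by
  have h1 := h.fix a ha _ (h.mov a' ha' w)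
  rw [map_sub] at h1
  rw [r_mul]
  linear_combination (norm := abel) h1

theorem shift_mul (h : Shears r A X X') {a a' : P} (ha : a ∈ A) (ha' : a' ∈ A) (x : ↥X') :
    shift h (mul_mem ha ha') x = shift h ha x + shift h ha' x :=
  Subtype.ext (shear_mul h ha ha' x)

variable [Finite W] [Finite P]

/-- The pairing between the two groups. -/
theorem exists_partner (hA : Shears r A X X') (hB : Shears r B X' X)
    (hdis : ∀ w ∈ X, w ∈ X' → w = 0) (hX0 : X ≠ ⊥)
    (hconj : ∀ g : P, (∀ x ∈ X, r g x ∈ X) ∨ ∃ a ∈ A, ∀ x ∈ X, ∃ x' ∈ X', r g x = r a x')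
    {b : P} (hb : b ∈ B) (hb1 : b ≠ 1) :
    ∃ a, ∃ ha : a ∈ A, a ≠ 1 ∧ ∀ y, shift hA ha (shift hB hb y) = y := by
  obtain ⟨⟨y₀, hy₀⟩, hy₀'⟩ := (AddSubgroup.ne_bot_iff_exists_ne_zero).mp hX0
  rcases hconj b with h | ⟨a, ha, h⟩
  · exfalso
    refine hy₀' (Subtype.ext (hB.reg b hb hb1 y₀ hy₀ ?_))
    exact sub_eq_zero.mp (hdis _ (sub_mem (h y₀ hy₀) hy₀) (hB.mov b hb y₀))
  have key : ∀ y, shift hA ha (shift hB hb y) = y := by
    intro y
    obtain ⟨x', hx', e⟩ := h y y.2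
    set s := shift hA ha ⟨x', hx'⟩
    set t := shift hB hb y
    have e' : (y : W) + (t : W) = (s : W) + x' := by
      rw [coe_shift, coe_shift]
      linear_combination (norm := abel) e
    have h0 : (y : W) - (s : W) = x' - (t : W) := by linear_combination (norm := abel) e'
    have h1 : (y : W) - (s : W) = 0 :=
      hdis _ (sub_mem y.2 s.2) (h0 ▸ sub_mem hx' t.2)
    have h2 : x' = (t : W) := by rw [h1] at h0; exact sub_eq_zero.mp h0.symm
    have h3 : (⟨x', hx'⟩ : ↥X') = t := Subtype.ext h2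
    rw [← h3]
    exact Subtype.ext (sub_eq_zero.mp h1).symm
  refine ⟨a, ha, ?_, key⟩
  rintro rfl
  have := congrArg Subtype.val (key ⟨y₀, hy₀⟩)
  rw [coe_shift, r_one, sub_self] at this
  exact hy₀' (Subtype.ext this.symm)

/-- Coordinates over a common set `L` of endomorphisms. -/
theorem exists_coords (hA : Shears r A X X') (hB : Shears r B X' X)
    (hdis : ∀ w ∈ X, w ∈ X' → w = 0) (hsup : X ⊔ X' = ⊤) (hX0 : X ≠ ⊥)
    (hcard : Nat.card ↥A = Nat.card ↥X) (hAB : Nat.card ↥B = Nat.card ↥A)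
    (hfaith : Function.Injective r)
    (hconj : ∀ g : P, (∀ x ∈ X, r g x ∈ X) ∨ ∃ a ∈ A, ∀ x ∈ X, ∃ x' ∈ X', r g x = r a x') :
    ∃ (L : AddSubgroup (AddMonoid.End ↥X)) (Ψ : ↥X × ↥X ≃+ W), JordanField.InvClosed L ∧
      Nat.card ↥L = Nat.card ↥X ∧
      (∀ a ∈ A, ∃ l ∈ L, ∀ s t, r a (Ψ (s, t)) = Ψ (s + l t, t)) ∧
      (∀ l ∈ L, ∃ a ∈ A, ∀ s t, r a (Ψ (s, t)) = Ψ (s + l t, t)) ∧
      (∀ b ∈ B, ∃ l ∈ L, ∀ s t, r b (Ψ (s, t)) = Ψ (s, t + l s)) ∧
      (∀ l ∈ L, ∃ b ∈ B, ∀ s t, r b (Ψ (s, t)) = Ψ (s, t + l s)) := by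
  classical
  have : Finite (AddMonoid.End ↥X) := Finite.of_injective _ DFunLike.coe_injective
  have h1A : 1 < Nat.card ↥A := by
    rw [hcard]; exact (AddSubgroup.one_lt_card_iff_ne_bot X).mpr hX0
  obtain ⟨⟨b₁, hb₁⟩, hb₁'⟩ :=
    (Subgroup.ne_bot_iff_exists_ne_one).mp ((Subgroup.one_lt_card_iff_ne_bot B).mp (hAB ▸ h1A))
  have hb₁1 : b₁ ≠ 1 := fun e => hb₁' (Subtype.ext e)
  obtain ⟨a₁, ha₁, ha₁1, hν⟩ := exists_partner hA hB hdis hX0 hconj hb₁ hb₁1
  set ν := shift hB hb₁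
  set μ := shift hA ha₁
  have hνμ : ∀ x, ν (μ x) = x := fun x => shift_injective hA ha₁ ha₁1 (hν (μ x))
  let Ψ0 : ↥X × ↥X →+ W := AddMonoidHom.mk' (fun q => (q.1 : W) + (ν q.2 : W)) fun q q' => by
    simp only [Prod.fst_add, Prod.snd_add, map_add, AddSubgroup.coe_add]; abel
  have hΨbij : Function.Bijective Ψ0 := by
    refine ⟨(injective_iff_map_eq_zero _).mpr fun q hq => ?_, fun w => ?_⟩
    · change (q.1 : W) + (ν q.2 : W) = 0 at hq
      have h1 : (q.1 : W) = 0 := hdis _ q.1.2 (by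
        rw [eq_neg_of_add_eq_zero_left hq]; exact neg_mem (ν q.2).2)
      rw [h1, zero_add] at hq
      exact Prod.ext (Subtype.ext h1) (shift_injective hB hb₁ hb₁1
        ((Subtype.ext hq : ν q.2 = 0).trans (map_zero ν).symm))
    · obtain ⟨x, hx, x', hx', rfl⟩ := AddSubgroup.mem_sup.mp (hsup.symm ▸ AddSubgroup.mem_top w :
        w ∈ X ⊔ X')
      exact ⟨(⟨x, hx⟩, μ ⟨x', hx'⟩), by show x + (ν (μ ⟨x', hx'⟩) : W) = _; rw [hνμ]⟩
  let Ψ : ↥X × ↥X ≃+ W := AddEquiv.ofBijective Ψ0 hΨbij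
  have hΨ : ∀ s t, Ψ (s, t) = (s : W) + (ν t : W) := fun s t => rfl
  let lA : ↥A → AddMonoid.End ↥X := fun a => (shift hA a.2).comp ν
  let mB : ↥B → AddMonoid.End ↥X := fun b => μ.comp (shift hB b.2)
  have hlA : ∀ (a : ↥A) s t, r (a : P) (Ψ (s, t)) = Ψ (s + lA a t, t) := by
    intro a s t
    rw [hΨ, hΨ, map_add, hA.fix a a.2 s s.2]
    show (s : W) + r (a : P) (ν t : W) = ((s + shift hA a.2 (ν t) : ↥X) : W) + (ν t : W)
    rw [AddSubgroup.coe_add, coe_shift hA]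
    abel
  have hmB : ∀ (b : ↥B) s t, r (b : P) (Ψ (s, t)) = Ψ (s, t + mB b s) := by
    intro b s t
    rw [hΨ, hΨ, map_add, hB.fix b b.2 _ (ν t).2]
    show r (b : P) (s : W) + (ν t : W) = (s : W) + ((ν (t + μ (shift hB b.2 s)) : ↥X') : W)
    rw [map_add, hνμ, AddSubgroup.coe_add, coe_shift hB hb₁, coe_shift hB b.2]
    abel
  have hlmul : ∀ a a' : ↥A, lA (a * a') = lA a + lA a' := fun a a' =>
    AddMonoidHom.ext fun t => shift_mul hA a.2 a'.2 (ν t)
  have hlone : lA 1 = 0 := by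
    have := hlmul 1 1
    rwa [one_mul, right_eq_add] at this
  have hlinv : ∀ a : ↥A, lA a⁻¹ = -lA a := fun a => by
    refine eq_neg_of_add_eq_zero_left ?_
    rw [← hlmul, inv_mul_cancel, hlone]
  have hlinj : Function.Injective lA := by
    intro a a' e
    have : ∀ w, r (a : P) w = r (a' : P) w := fun w => by
      obtain ⟨⟨s, t⟩, rfl⟩ := Ψ.surjective w
      rw [hlA, hlA, e]
    exact Subtype.ext (hfaith (DFunLike.ext _ _ this))
  have hminj : Function.Injective mB := by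
    intro b b' e
    have : ∀ w, r (b : P) w = r (b' : P) w := fun w => by
      obtain ⟨⟨s, t⟩, rfl⟩ := Ψ.surjective w
      rw [hmB, hmB, e]
    exact Subtype.ext (hfaith (DFunLike.ext _ _ this))
  let L : AddSubgroup (AddMonoid.End ↥X) :=
    { carrier := Set.range lA
      zero_mem' := ⟨1, hlone⟩
      add_mem' := by rintro _ _ ⟨a, rfl⟩ ⟨a', rfl⟩; exact ⟨a * a', hlmul a a'⟩
      neg_mem' := by rintro _ ⟨a, rfl⟩; exact ⟨a⁻¹, hlinv a⟩ }
  have hl1 : lA ⟨a₁, ha₁⟩ = 1 := AddMonoidHom.ext fun t => hν t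
  have hm1 : mB ⟨b₁, hb₁⟩ = 1 := AddMonoidHom.ext fun t => hν t
  have hm1' : mB ⟨b₁, hb₁⟩⁻¹ = -1 := by
    refine AddMonoidHom.ext fun t => ?_
    have h2 := shift_mul hB (inv_mem hb₁) hb₁ t
    have h3 : shift hB (mul_mem (inv_mem hb₁) hb₁) t = 0 := Subtype.ext (by
      rw [coe_shift, inv_mul_cancel, r_one, sub_self]; rfl)
    rw [h3] at h2
    show μ (shift hB (inv_mem hb₁) t) = -t
    rw [eq_neg_of_add_eq_zero_left h2.symm, map_neg, hν]
  -- the lower parameters lie in `L`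
  have hmL : ∀ b : ↥B, mB b ∈ L := by
    intro b
    have hw : ∀ y, r (a₁ * b₁⁻¹ * a₁ * b : P) (Ψ (y, 0)) = Ψ (mB b y, -y) := by
      intro y
      have e1 := hlA ⟨a₁, ha₁⟩
      have e2 := hmB ⟨b₁, hb₁⟩⁻¹
      rw [hl1] at e1
      rw [hm1', Subgroup.coe_inv] at e2
      rw [r_mul, r_mul, r_mul, hmB, zero_add, e1, e2, e1]
      refine congrArg Ψ (Prod.ext ?_ ?_)
      · show y + mB b y + (mB b y + -(y + mB b y)) = mB b y
        abel
      · show mB b y + -(y + mB b y) = -y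
        abel
    have hX : ∀ y : ↥X, (y : W) = Ψ (y, 0) := fun y => by rw [hΨ, map_zero]; simp
    rcases hconj (a₁ * b₁⁻¹ * a₁ * b) with h | ⟨a, ha, h⟩
    · exfalso
      obtain ⟨y, hy⟩ := (AddSubgroup.ne_bot_iff_exists_ne_zero).mp hX0
      have h2 := h y y.2
      rw [hX y, hw] at h2
      have h3 := Ψ.injective ((hX ⟨_, h2⟩))
      exact hy (neg_eq_zero.mp (congrArg Prod.snd h3))
    · have : mB b = lA ⟨a, ha⟩⁻¹ := by
        rw [hlinv]
        refine AddMonoidHom.ext fun y => ?_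
        obtain ⟨x', hx', e⟩ := h y y.2
        have hx'' : x' = Ψ (0, μ ⟨x', hx'⟩) := by rw [hΨ, hνμ]; simp
        rw [hX y, hw, hx'', show r a (Ψ (0, μ ⟨x', hx'⟩)) =
          Ψ (0 + lA ⟨a, ha⟩ (μ ⟨x', hx'⟩), μ ⟨x', hx'⟩) from hlA ⟨a, ha⟩ _ _] at e
        have e2 := Ψ.injective e
        have h4 : -y = μ ⟨x', hx'⟩ := congrArg Prod.snd e2
        have h5 : mB b y = 0 + lA ⟨a, ha⟩ (μ ⟨x', hx'⟩) := congrArg Prod.fst e2
        show mB b y = -(lA ⟨a, ha⟩ y)
        refine h5.trans ?_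
        rw [zero_add, ← h4, map_neg]
      rw [this]
      exact ⟨_, rfl⟩
  have hcardL : Nat.card ↥L = Nat.card ↥A :=
    (Nat.card_congr (Equiv.ofInjective lA hlinj)).symm
  have hmsurj : ∀ l ∈ L, ∃ b, mB b = l := by
    have hb : Function.Bijective (fun b => (⟨mB b, hmL b⟩ : ↥L)) :=
      (Nat.bijective_iff_injective_and_card _).mpr
        ⟨fun b b' e => hminj (congrArg Subtype.val e), hAB.trans hcardL.symm⟩
    intro l hl
    obtain ⟨b, hb'⟩ := hb.2 ⟨l, hl⟩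
    exact ⟨b, congrArg Subtype.val hb'⟩
  -- partners give inverses
  have hfun : ∀ b : ↥B, (b : P) ≠ 1 → ∃ a : ↥A, (a : P) ≠ 1 ∧ lA a * mB b = 1 := by
    intro b hb
    obtain ⟨a, ha, ha1, he⟩ := exists_partner hA hB hdis hX0 hconj b.2 hb
    exact ⟨⟨a, ha⟩, ha1, AddMonoidHom.ext fun y => by
      show shift hA ha (ν (μ (shift hB b.2 y))) = y
      rw [hνμ, he]⟩
  have hInv : JordanField.InvClosed L := by
    refine ⟨⟨_, hl1⟩, ?_⟩
    rintro _ ⟨a, rfl⟩ ha0
    have ha1 : (a : P) ≠ 1 := fun e => ha0 (by rw [show a = 1 from Subtype.ext e, hlone])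
    have : Finite (AddMonoid.End ↥X) := Finite.of_injective _ DFunLike.coe_injective
    have hinj : Function.Injective (lA a) :=
      (shift_injective hA a.2 ha1).comp (shift_injective hB hb₁ hb₁1)
    -- every nontrivial element of `A` is a partner
    choose f hf1 hf using fun b : {b : ↥B // b ≠ 1} => hfun b.1 (fun e => b.2 (Subtype.ext e))
    have hfb : Function.Bijective (fun b => (⟨f b, fun e => hf1 b (congrArg Subtype.val e)⟩ :
        {a : ↥A // a ≠ 1})) := by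
      refine (Nat.bijective_iff_injective_and_card _).mpr ⟨fun b b' e => Subtype.ext (hminj ?_), ?_⟩
      · have e' : f b = f b' := congrArg Subtype.val e
        have hinj' : Function.Injective (lA (f b)) :=
          (shift_injective hA (f b).2 (hf1 b)).comp (shift_injective hB hb₁ hb₁1)
        refine AddMonoidHom.ext fun y => hinj' ?_
        have h1 := DFunLike.congr_fun (hf b) y
        have h2 := DFunLike.congr_fun (hf b') y
        rw [← e'] at h2
        exact h1.trans h2.symm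
      · have := Fintype.ofFinite ↥A
        have := Fintype.ofFinite ↥B
        rw [Nat.card_eq_fintype_card, Nat.card_eq_fintype_card, Fintype.card_subtype_compl,
          Fintype.card_subtype_compl, ← Nat.card_eq_fintype_card, ← Nat.card_eq_fintype_card, hAB]
        simp
    obtain ⟨b, hb⟩ := hfb.2 ⟨a, fun e => ha1 (congrArg Subtype.val e)⟩
    have hb' : f b = a := congrArg Subtype.val hb
    refine ⟨mB b.1, hmL b.1, hb' ▸ hf b, AddMonoidHom.ext fun y => hinj ?_⟩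
    exact DFunLike.congr_fun (hb' ▸ hf b) (lA a y)
  refine ⟨L, Ψ, hInv, hcardL.trans hcard, fun a ha => ⟨_, ⟨⟨a, ha⟩, rfl⟩, hlA ⟨a, ha⟩⟩, ?_,
    fun b hb => ⟨_, hmL ⟨b, hb⟩, hmB ⟨b, hb⟩⟩, ?_⟩
  · rintro _ ⟨a, rfl⟩
    exact ⟨a, a.2, hlA a⟩
  · intro l hl
    obtain ⟨b, rfl⟩ := hmsurj l hl
    exact ⟨b, b.2, hmB b⟩

/-- The conclusion: `SL₂(F)` on its natural module. -/
theorem exists_natural {p : ℕ} [Fact p.Prime] (hp : ∀ w : W, p • w = 0)
    (hA : Shears r A X X') (hB : Shears r B X' X) (hgen : A ⊔ B = ⊤)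
    (hdis : ∀ w ∈ X, w ∈ X' → w = 0) (hsup : X ⊔ X' = ⊤) (hX0 : X ≠ ⊥)
    (hcard : Nat.card ↥A = Nat.card ↥X) (hAB : Nat.card ↥B = Nat.card ↥A)
    (hfaith : Function.Injective r)
    (hconj : ∀ g : P, (∀ x ∈ X, r g x ∈ X) ∨ ∃ a ∈ A, ∀ x ∈ X, ∃ x' ∈ X', r g x = r a x') :
    ∃ (F : Type) (_ : Field F) (_ : Fintype F) (ρ : P ≃* SL(2, F)) (e : (Fin 2 → F) ≃+ W),
      Fintype.card F = Nat.card ↥A ∧
        ∀ g v, r g (e v) = e ((ρ g : Matrix (Fin 2) (Fin 2) F) *ᵥ v) := by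
  classical
  obtain ⟨L, Ψ, hL, hLcard, hA1, hA2, hB1, hB2⟩ := exists_coords hA hB hdis hsup hX0 hcard hAB hfaith hconj
  have hpX : ∀ x : ↥X, p • x = 0 := fun x => Subtype.ext (by rw [AddSubgroup.coe_nsmul]; exact hp _)
  have : Finite (AddMonoid.End ↥X) := Finite.of_injective _ DFunLike.coe_injective
  have hmul := JordanField.commute_and_mul_mem hpX hL
  let K : Subring (AddMonoid.End ↥X) :=
    { carrier := L
      zero_mem' := zero_mem L
      one_mem' := hL.one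
      add_mem' := fun ha hb => add_mem (ha : _ ∈ L) hb
      neg_mem' := fun ha => neg_mem (ha : _ ∈ L)
      mul_mem' := fun ha hb => (hmul _ ha _ hb).2 }
  obtain ⟨⟨x₀, hx₀⟩, hx₀'⟩ := (AddSubgroup.ne_bot_iff_exists_ne_zero).mp hX0
  set y₀ : ↥X := ⟨x₀, hx₀⟩
  have hnt : (1 : AddMonoid.End ↥X) ≠ 0 := fun e => hx₀' (DFunLike.congr_fun e y₀)
  let _ : CommRing ↥K := { (inferInstance : Ring ↥K) with
    mul_comm := fun x y => Subtype.ext (hmul x x.2 y y.2).1 }
  have : Nontrivial ↥K := ⟨1, 0, fun e => hnt (congrArg Subtype.val e)⟩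
  have hfield : IsField ↥K := by
    refine ⟨⟨1, 0, one_ne_zero⟩, mul_comm, fun {x} hx => ?_⟩
    obtain ⟨y, hy, hxy, -⟩ := hL.inv x x.2 (fun e => hx (Subtype.ext e))
    exact ⟨⟨y, hy⟩, Subtype.ext hxy⟩
  let _ : Field ↥K := hfield.toField
  obtain ⟨F, hFf, hFt, ⟨iso⟩⟩ : ∃ (F : Type) (_ : Field F) (_ : Fintype F), Nonempty (F ≃+* ↥K) := by
    have : Finite ↥K := inferInstance
    have : Small.{0} ↥K := inferInstance
    exact ⟨Shrink.{0} ↥K, (equivShrink ↥K).symm.field, Fintype.ofFinite _, ⟨(equivShrink ↥K).symm.ringEquiv⟩⟩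
  -- `F ≅ X`
  let κ : F →+ ↥X := AddMonoidHom.mk' (fun t => (iso t : AddMonoid.End ↥X) y₀) fun s t => by
    simp only [map_add]; rfl
  have hcardF : Nat.card F = Nat.card ↥X := by
    rw [Nat.card_congr iso.toEquiv]; exact hLcard
  have hκinj : Function.Injective κ := (injective_iff_map_eq_zero κ).mpr fun t ht => by
    by_contra ht0
    have h1 := hL.eq_zero_of_apply (y := (iso t : AddMonoid.End ↥X)) (iso t).2
      (fun e => hx₀' e) ht
    exact ht0 (iso.injective ((Subtype.ext h1 : iso t = 0).trans (map_zero iso).symm))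
  have hκ : Function.Bijective κ := (Nat.bijective_iff_injective_and_card _).mpr ⟨hκinj, hcardF⟩
  have hκmul : ∀ (c : F) t, (iso c : AddMonoid.End ↥X) (κ t) = κ (c * t) := fun c t => by
    show (iso c : AddMonoid.End ↥X) ((iso t : AddMonoid.End ↥X) y₀) = (iso (c * t) : AddMonoid.End ↥X) y₀
    rw [map_mul]; rfl
  let Φ : (Fin 2 → F) →+ W :=
    AddMonoidHom.mk' (fun v => Ψ (κ (v 0), κ (v 1))) fun v w => by
      simp only [Pi.add_apply, map_add, ← map_add Ψ, Prod.mk_add_mk]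
  have hΦ : Function.Bijective Φ := by
    refine ⟨fun v w e => ?_, fun w => ?_⟩
    · have e' := Ψ.injective e
      funext i
      fin_cases i
      · exact hκinj (congrArg Prod.fst e')
      · exact hκinj (congrArg Prod.snd e')
    · obtain ⟨⟨s, t⟩, rfl⟩ := Ψ.surjective w
      obtain ⟨a, rfl⟩ := hκ.2 s
      obtain ⟨b, rfl⟩ := hκ.2 t
      exact ⟨![a, b], rfl⟩
  let e := AddEquiv.ofBijective Φ hΦ
  let Rep : P → SL(2, F) → Prop := fun g M =>
    ∀ v, r g (Φ v) = Φ ((M : Matrix (Fin 2) (Fin 2) F) *ᵥ v)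
  have huniq : ∀ g M M', Rep g M → Rep g M' → M = M' := fun g M M' hM hM' =>
    Subtype.ext (Matrix.ext_of_mulVec_single fun i => hΦ.1 ((hM _).symm.trans (hM' _)))
  have hmul' : ∀ g g' M M', Rep g M → Rep g' M' → Rep (g * g') (M * M') := by
    intro g g' M M' hM hM' v
    rw [r_mul, hM', hM, Matrix.mulVec_mulVec, ← Matrix.SpecialLinearGroup.coe_mul]
  have hinv' : ∀ g M, Rep g M → Rep g⁻¹ M⁻¹ := by
    intro g M hM v
    refine r_injective r g ?_
    rw [hM, ← r_mul, mul_inv_cancel, r_one, Matrix.mulVec_mulVec, ← Matrix.SpecialLinearGroup.coe_mul,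
      mul_inv_cancel, Matrix.SpecialLinearGroup.coe_one, Matrix.one_mulVec]
  have hup : ∀ a : P, ∀ c : F, (∀ s t, r a (Ψ (s, t)) = Ψ (s + (iso c : AddMonoid.End ↥X) t, t)) →
      Rep a (PSL2.uu c) := by
    intro a c hac v
    show r a (Ψ (κ (v 0), κ (v 1))) = Ψ (κ _, κ _)
    rw [hac, hκmul, ← map_add]
    congr 2 <;> simp [Matrix.mulVec, dotProduct, Fin.sum_univ_two]
  have hdown : ∀ b : P, ∀ c : F, (∀ s t, r b (Ψ (s, t)) = Ψ (s, t + (iso c : AddMonoid.End ↥X) s)) →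
      Rep b (PSL2.ll c) := by
    intro b c hbc v
    show r b (Ψ (κ (v 0), κ (v 1))) = Ψ (κ _, κ _)
    rw [hbc, hκmul, ← map_add]
    congr 2 <;> simp [Matrix.mulVec, dotProduct, Fin.sum_univ_two, add_comm]
  let H : Subgroup P :=
    { carrier := {g | ∃ M, Rep g M}
      one_mem' := ⟨1, fun v => by rw [r_one, Matrix.SpecialLinearGroup.coe_one, Matrix.one_mulVec]⟩
      mul_mem' := fun ⟨M, hM⟩ ⟨M', hM'⟩ => ⟨M * M', hmul' _ _ M M' hM hM'⟩
      inv_mem' := fun ⟨M, hM⟩ => ⟨M⁻¹, hinv' _ M hM⟩ }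
  have hH : H = ⊤ := by
    rw [eq_top_iff, ← hgen, sup_le_iff]
    constructor
    · intro a ha
      obtain ⟨l, hl, hle⟩ := hA1 a ha
      obtain ⟨c, hc⟩ := iso.surjective ⟨l, hl⟩
      exact ⟨_, hup a c (by rw [hc]; exact hle)⟩
    · intro b hb
      obtain ⟨l, hl, hle⟩ := hB1 b hb
      obtain ⟨c, hc⟩ := iso.surjective ⟨l, hl⟩
      exact ⟨_, hdown b c (by rw [hc]; exact hle)⟩
  choose M hM using fun g : P => (hH ▸ Subgroup.mem_top g : g ∈ H)
  let ρ : P →* SL(2, F) :=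
    MonoidHom.mk' M fun g g' => huniq _ _ _ (hM (g * g')) (hmul' _ _ _ _ (hM g) (hM g'))
  have hρ : Function.Bijective ρ := by
    refine ⟨fun g g' eg => hfaith (DFunLike.ext _ _ fun w => ?_), ?_⟩
    · obtain ⟨v, rfl⟩ := hΦ.2 w
      rw [hM g v, hM g' v, show M g = M g' from eg]
    · rw [← MonoidHom.range_eq_top]
      refine PSL2.eq_top_of_uu_ll (fun c => ?_) fun c => ?_
      · obtain ⟨a, -, ha⟩ := hA2 _ (iso c).2
        exact ⟨a, huniq _ _ _ (hM a) (hup a c ha)⟩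
      · obtain ⟨b, -, hb⟩ := hB2 _ (iso c).2
        exact ⟨b, huniq _ _ _ (hM b) (hdown b c hb)⟩
  refine ⟨F, hFf, hFt, MulEquiv.ofBijective ρ hρ, e, ?_, fun g v => hM g v⟩
  rw [← Nat.card_eq_fintype_card, hcardF, hcard]

end Cfsg.Agent.SpreadPair
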